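import Mathlib

/-!
# A field generated by a small set over an algebraically closed field

If `K/k` is a field extension with `k` algebraically closed and `K` generated as a `k`-algebra by a
set that is finite or of cardinality `< #k`, then `K = k`.
-/

universe u
open Cardinal

namespace Groth.Agent.Helper19.GeomLift

theorem bijective_algebraMap_of_adjoin {k K : Type u} [Field k] [IsAlgClosed k] [Field K]
    [Algebra k K] (T : Set K) (hT : Algebra.adjoin k T = ⊤) (hcard : T.Finite ∨ #T < #k) :
    Function.Bijective (algebraMap k K) := by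
  by_cases hfin : T.Finite
  · haveI : Algebra.FiniteType k K := ⟨⟨hfin.toFinset, by simpa using hT⟩⟩
    haveI : Module.Finite k K := finite_of_finite_type_of_isJacobsonRing k K
    exact IsAlgClosed.algebraMap_bijective_of_isIntegral
  · have hlt : #T < #k := hcard.resolve_left hfin
    have hinf : ℵ₀ ≤ #T := by
      rw [Cardinal.aleph0_le_mk_iff]; exact Set.infinite_coe_iff.2 hfin
    refine ⟨(algebraMap k K).injective, ?_⟩
    by_contra hns
    obtain ⟨t, ht⟩ : ∃ t : K, t ∉ Set.range (algebraMap k K) := by
      by_contra h; push Not at h; exact hns (fun x => h x)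
    have htr : Transcendental k t := by
      intro halg
      have hint : IsIntegral k t := halg.isIntegral
      have hdeg : (minpoly k t).degree = 1 :=
        IsAlgClosed.degree_eq_one_of_irreducible k (minpoly.irreducible hint)
      exact ht (minpoly.mem_range_of_degree_eq_one k t hdeg)
    have h1 := htr.linearIndependent_sub_inv.cardinal_lift_le_rank
    have hsurj : Function.Surjective (MvPolynomial.aeval (R := k) (fun x : T => (x : K))) := by
      rw [← AlgHom.range_eq_top, ← Algebra.adjoin_range_eq_range_aeval, Subtype.range_coe, hT]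
    have h2 := (MvPolynomial.aeval (R := k) (fun x : T => (x : K))).toLinearMap.rank_le_of_surjective
      hsurj
    haveI : Nonempty T := by
      by_contra hne
      rw [not_nonempty_iff] at hne
      exact hfin (Set.finite_coe_iff.1 inferInstance)
    rw [MvPolynomial.rank_eq, Cardinal.mk_finsupp_nat, max_eq_left hinf] at h2
    rw [Cardinal.lift_id, Cardinal.lift_id] at h1
    exact absurd (h1.trans h2) (not_le.2 hlt)

open TensorProduct in
/-- A field of finite type over `k ⊗[R] L`, with `k` algebraically closed and `#L < #k`, is `k`. -/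
theorem bijective_comp_includeLeft {k L R K : Type u} [Field k] [IsAlgClosed k] [Field L]
    [CommRing R] [Algebra R k] [Algebra R L] [Field K] (hcard : #L < #k)
    (ψ : k ⊗[R] L →+* K) (hψ : ψ.FiniteType) :
    Function.Bijective (ψ.comp Algebra.TensorProduct.includeLeftRingHom) := by
  letI : Algebra (k ⊗[R] L) K := ψ.toAlgebra
  letI : Algebra k K := (ψ.comp Algebra.TensorProduct.includeLeftRingHom).toAlgebra
  have hψ' : Algebra.FiniteType (k ⊗[R] L) K := hψ
  obtain ⟨G, hG⟩ := hψ'.out
  let T : Set K := Set.range (fun l : L => ψ (1 ⊗ₜ[R] l)) ∪ (G : Set K)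
  have hT : Algebra.adjoin k T = ⊤ := by
    rw [eq_top_iff]
    intro x hx0
    clear hx0
    have hx : x ∈ Algebra.adjoin (k ⊗[R] L) (G : Set K) := by rw [hG]; trivial
    induction hx using Algebra.adjoin_induction with
    | mem y hy => exact Algebra.subset_adjoin (Or.inr hy)
    | algebraMap z =>
      change ψ z ∈ _
      induction z using TensorProduct.induction_on with
      | zero => rw [map_zero]; exact zero_mem _
      | tmul a l =>
        have : ψ (a ⊗ₜ[R] l) = algebraMap k K a * ψ (1 ⊗ₜ[R] l) := by
          change _ = ψ (a ⊗ₜ[R] 1) * _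
          rw [← map_mul, Algebra.TensorProduct.tmul_mul_tmul, mul_one, one_mul]
        rw [this]
        exact mul_mem (Subalgebra.algebraMap_mem _ a) (Algebra.subset_adjoin (Or.inl ⟨l, rfl⟩))
      | add z w hz hw => rw [map_add]; exact add_mem hz hw
    | add y z _ _ hy hz => exact add_mem hy hz
    | mul y z _ _ hy hz => exact mul_mem hy hz
  have hc : T.Finite ∨ #T < #k := by
    by_cases hL : Finite L
    · left; exact (Set.finite_range _).union G.finite_toSet
    · right
      rw [not_finite_iff_infinite] at hL
      have h1 : #T ≤ #(Set.range (fun l : L => ψ (1 ⊗ₜ[R] l))) + #(G : Set K) := Cardinal.mk_union_le _ _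
      have h2 : #(Set.range (fun l : L => ψ (1 ⊗ₜ[R] l))) ≤ #L := Cardinal.mk_range_le
      have h3 : #(G : Set K) < ℵ₀ := Cardinal.lt_aleph0_of_finite _
      have h4 : ℵ₀ ≤ #L := Cardinal.aleph0_le_mk L
      calc #T ≤ #L + #(G : Set K) := h1.trans (add_le_add_left h2 _)
        _ = #L := Cardinal.add_eq_left h4 (h3.le.trans h4)
        _ < #k := hcard
  exact bijective_algebraMap_of_adjoin T hT hc

end Groth.Agent.Helper19.GeomLift
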