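import Groth.Agent.Lib.Helper19.GeomLift.Over
import Groth.Agent.Lib.Helper15.AlgSpDiag
import Groth.Agent.Lib.Helper15.AlgSpTop
import Groth.Agent.Lib.Helper15.AlgSpPoints
import Groth.Prelude.Def_AlgSpDec

/-!
# Geometric lifts of points over a large algebraically closed field
-/

universe u
open CategoryTheory CategoryTheory.Limits AlgebraicGeometry Cardinal Opposite
open AlgSp Groth.Agent.Helper15

namespace Groth.Agent.Helper19.GeomLift

theorem exists_geometric_lift {S : Scheme.{u}} {X Y : Sp S} (hY : IsAlgSpace Y) (f : X ⟶ Y)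
    {U : Over S} (a : (yon S).obj U ⟶ X) (has : RepWith @Surjective a)
    (ybar : FieldPt Y) (hy : ybar.IsGeometric)
    (hk : ∀ u : ↥U.left, #(U.left.residueField u) < #ybar.K)
    (x : Points X) (hx : Points.map f x = Points.mk ybar) :
    ∃ xbar : (yon S).obj ybar.pt ⟶ X, xbar ≫ f = ybar.toHom ∧
      Points.ofPt xbar (IsLocalRing.closedPoint ybar.K) = x := by
  obtain ⟨u, rfl⟩ := surjective_ofPt a has x
  haveI : IsAlgClosed ybar.K := hy
  -- the field-valued point of `X` at `u`
  let PU : Over S := Over.mk (U.left.fromSpecResidueField u ≫ U.hom)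
  let ιu : PU ⟶ U := Over.homMk (U.left.fromSpecResidueField u) rfl
  let ξ : (yon S).obj PU ⟶ Y := (yon S).map ιu ≫ a ≫ f
  have hyb : Points.mk ybar = ofField ybar.toHom := by
    simp only [ofField]
    congr 1
    obtain ⟨K, str, val⟩ := ybar
    simp [FieldPt.toHom]
  rw [hyb, ofPt_eq_ofField, map_ofField, ofField_eq_iff] at hx
  obtain ⟨Ω, _, w, α, β, hαβ⟩ := hx
  have rep : Representable ybar.toHom := hY.representable_from_yon _
  have sq := rep.isPullback' ξ
  haveI : Nonempty (rep.pullback ξ).left := by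
    obtain ⟨z, -⟩ := (yon S).map_surjective (sq.lift ((yon S).map β) ((yon S).map α) (by
      rw [← hαβ]; simp only [ξ, Category.assoc]; rfl))
    exact ⟨z.left (show ↥(Spec (CommRingCat.of Ω)) from IsLocalRing.closedPoint Ω)⟩
  have hlft := prod_lift_of_repWith_diag (repWith_lft_diag hY) sq
  obtain ⟨σ, hσ⟩ := exists_over_section (hk u) (rep.fst' ξ) (rep.snd ξ) hlft
  refine ⟨(yon S).map (σ ≫ rep.snd ξ) ≫ (yon S).map ιu ≫ a, ?_, ?_⟩
  · have := sq.w
    simp only [Functor.map_comp, Category.assoc]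
    change (yon S).map σ ≫ (yon S).map (rep.snd ξ) ≫ ξ = _
    rw [← sq.w, ← Category.assoc, ← Functor.map_comp, hσ, CategoryTheory.Functor.map_id,
      Category.id_comp]
  · rw [ofPt_eq_ofField, ofPt_eq_ofField, ← Category.assoc, ← Functor.map_comp]
    exact ofField_comp _ _

end Groth.Agent.Helper19.GeomLift
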