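import Groth.Agent.Lib.Helper19.GeomLift.Sch

/-!
# Sections over an algebraically closed field of large cardinality, in `Over S`
-/

universe u
open CategoryTheory CategoryTheory.Limits AlgebraicGeometry TensorProduct Cardinal

namespace Groth.Agent.Helper19.GeomLift

theorem exists_over_section {S : Scheme.{u}} {k L : Type u} [Field k] [IsAlgClosed k] [Field L]
    (hcard : #L < #k) {str : Spec (CommRingCat.of k) ⟶ S} {str' : Spec (CommRingCat.of L) ⟶ S}
    {W : Over S} (fst : W ⟶ Over.mk str) (snd : W ⟶ Over.mk str') [Nonempty W.left]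
    (hlft : LocallyOfFiniteType (prod.lift fst snd).left) :
    ∃ σ : Over.mk str ⟶ W, σ ≫ fst = 𝟙 _ := by
  let φ : Γ(S, ⊤) ⟶ CommRingCat.of k := Spec.preimage (str ≫ S.toSpecΓ)
  let φ' : Γ(S, ⊤) ⟶ CommRingCat.of L := Spec.preimage (str' ≫ S.toSpecΓ)
  letI : Algebra Γ(S, ⊤) k := φ.hom.toAlgebra
  letI : Algebra Γ(S, ⊤) L := φ'.hom.toAlgebra
  have h₁ : str ≫ S.toSpecΓ = Spec.map (CommRingCat.ofHom (algebraMap Γ(S, ⊤) k)) :=
    (Spec.map_preimage _).symm
  have h₂ : str' ≫ S.toSpecΓ = Spec.map (CommRingCat.ofHom (algebraMap Γ(S, ⊤) L)) :=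
    (Spec.map_preimage _).symm
  let e1 := Over.prodLeftIsoPullback (Over.mk str) (Over.mk str')
  let j := pullback.mapDesc str str' S.toSpecΓ
  let e2 := pullback.congrHom h₁ h₂
  let e3 := pullbackSpecIso Γ(S, ⊤) k L
  let h : W.left ⟶ Spec (CommRingCat.of (k ⊗[Γ(S, ⊤)] L)) :=
    (prod.lift fst snd).left ≫ e1.hom ≫ j ≫ e2.hom ≫ e3.hom
  haveI := hlft
  haveI : LocallyOfFiniteType h := by
    dsimp only [h]
    infer_instance
  obtain ⟨σ, hσ⟩ := exists_section_of_lft_tensor (R := Γ(S, ⊤)) hcard h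
  have hfst : h ≫ Spec.map (CommRingCat.ofHom
      (Algebra.TensorProduct.includeLeftRingHom : k →+* k ⊗[Γ(S, ⊤)] L)) = fst.left := by
    dsimp only [h, e1, j, e2, e3]
    simp only [Category.assoc]
    rw [pullbackSpecIso_hom_fst, pullback.congrHom_hom, pullback.lift_fst, Category.comp_id]
    have hm : pullback.mapDesc str str' S.toSpecΓ ≫
        pullback.fst (str ≫ S.toSpecΓ) (str' ≫ S.toSpecΓ) = pullback.fst str str' := by
      rw [pullback.mapDesc, pullback.map, pullback.lift_fst, Category.comp_id]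
    rw [hm]
    have he := Over.prodLeftIsoPullback_hom_fst (Over.mk str) (Over.mk str')
    dsimp only [Over.mk_hom] at he
    erw [he]
    rw [← Over.comp_left, prod.lift_fst]
  rw [hfst] at hσ
  refine ⟨Over.homMk σ ?_, Over.OverMorphism.ext hσ⟩
  have := Over.w fst
  dsimp at this ⊢
  rw [← this, ← Category.assoc, hσ, Category.id_comp]

end Groth.Agent.Helper19.GeomLift
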