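import Groth.Agent.Lib.Helper19.GeomLift.Alg

/-!
# Rational points of schemes locally of finite type over `k ⊗ L`
-/

universe u
open CategoryTheory CategoryTheory.Limits AlgebraicGeometry TensorProduct Cardinal

namespace Groth.Agent.Helper19.GeomLift

theorem exists_section_of_lft_tensor {k L R : Type u} [Field k] [IsAlgClosed k] [Field L]
    [CommRing R] [Algebra R k] [Algebra R L] (hcard : #L < #k) {W : Scheme.{u}} [Nonempty W]
    (h : W ⟶ Spec (CommRingCat.of (k ⊗[R] L))) [LocallyOfFiniteType h] :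
    ∃ σ : Spec (CommRingCat.of k) ⟶ W,
      σ ≫ h ≫ Spec.map (CommRingCat.ofHom
        (Algebra.TensorProduct.includeLeftRingHom : k →+* k ⊗[R] L)) = 𝟙 _ := by
  obtain ⟨w⟩ := ‹Nonempty W›
  obtain ⟨_, ⟨V0, hV0, rfl⟩, hwV0, -⟩ :=
    (W.isBasis_affineOpens).exists_subset_of_mem_open (Set.mem_univ w) isOpen_univ
  haveI : Nontrivial Γ(W, V0) := by
    by_contra hnt
    rw [not_nontrivial_iff_subsingleton] at hnt
    have hemp : IsEmpty (Spec Γ(W, V0)) := inferInstanceAs (IsEmpty (PrimeSpectrum Γ(W, V0)))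
    have hr : w ∈ Set.range hV0.fromSpec := by
      rw [hV0.range_fromSpec]; exact hwV0
    obtain ⟨z, -⟩ := hr
    exact hemp.false z
  obtain ⟨m, hm⟩ := Ideal.exists_maximal Γ(W, V0)
  let θ : CommRingCat.of (k ⊗[R] L) ⟶ Γ(W, V0) := Spec.preimage (hV0.fromSpec ≫ h)
  have hθ : Spec.map θ = hV0.fromSpec ≫ h := Spec.map_preimage _
  have hft : θ.hom.FiniteType := by
    have : LocallyOfFiniteType (Spec.map θ) := by rw [hθ]; infer_instance
    exact (HasRingHomProperty.Spec_iff (P := @LocallyOfFiniteType)).1 this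
  letI := Ideal.Quotient.field m
  let ψ : k ⊗[R] L →+* (Γ(W, V0) ⧸ m) := (Ideal.Quotient.mk m).comp θ.hom
  have hψ : ψ.FiniteType :=
    (RingHom.FiniteType.of_surjective _ Ideal.Quotient.mk_surjective).comp hft
  have hbij := bijective_comp_includeLeft hcard ψ hψ
  let e : k ≃+* (Γ(W, V0) ⧸ m) := RingEquiv.ofBijective _ hbij
  refine ⟨Spec.map (CommRingCat.ofHom e.symm.toRingHom) ≫
    Spec.map (CommRingCat.ofHom (Ideal.Quotient.mk m)) ≫ hV0.fromSpec, ?_⟩
  rw [Category.assoc, Category.assoc, ← Category.assoc hV0.fromSpec, ← hθ, ← Spec.map_comp,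
    ← Spec.map_comp, ← Spec.map_comp, ← Spec.map_id]
  congr 1
  ext x
  exact e.symm_apply_apply x

end Groth.Agent.Helper19.GeomLift
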